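import Cfsg.Agent.H562.PQR.Iface
import Cfsg.Agent.H817.ThinConway
import Cfsg.Agent.H807.El.Conway
import Cfsg.Agent.H49.CoOnePr
import Cfsg.Agent.S0365
import Cfsg.Agent.S0377
import Cfsg.Agent.S0400
import Cfsg.Agent.S2043
import Cfsg.Agent.SporadicA.MathieuRecog
import Cfsg.Agent.H831.PQR.Thirteen

/-!
# S3988: the rows `HS`, `McL`, `Co3`, `Co2`, `Co1` (helper831)

`M22 ≤ HS, McL`, `M23 ≤ Co2, Co3`, `M24 ≤ Co1`; `p = 13`, `Co1`: a triple of type `(2, 3, 13)`.
-/

set_option autoImplicit false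

namespace Cfsg.Agent.H831.PQR

open Cfsg Subgroup Cfsg.Agent.SporadicA.Co0Mono Cfsg.Agent.H562.PQR
open Cfsg.Agent.H817.Thin.Conway (embHS embMcL perm_inj)
open Cfsg.Agent.CoOneType.Thirteen (permCo0_injective)
open Cfsg.Agent.SporadicStructure.Co0Base (e8 e8_coe)
open Cfsg.Agent.LeechMat.Words (prodW)

universe u v

theorem hna_of_card {G : Type u} [Group G] [Finite G] [IsSimpleGroup G] (h : ¬ (Nat.card G).Prime) :
    ∃ x y : G, x * y ≠ y * x := by
  by_contra h1
  push Not at h1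
  let _ : CommGroup G := { (inferInstance : Group G) with mul_comm := h1 }
  exact h IsSimpleGroup.prime_card

theorem NotMin.of_simple {S : Type v} [Group S] [Finite S] {K : Type u} [Group K] [Finite K] [IsSimpleGroup K]
    (hK : ¬ (Nat.card K).Prime) (f : K →* S) (hf : Function.Injective f) (hlt : Nat.card K < Nat.card S) {p : ℕ}
    (hp : p.Prime) (hd : p ∣ Nat.card K) : NotMin p S := by
  have : Fact p.Prime := ⟨hp⟩
  exact NotMin.of_injective f hf (not_isPSolvable_of_simple (hna_of_card hK) hp hd) hlt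

/-! ### the Mathieu groups -/

theorem card22 : Nat.card Spor.M22 = 443520 := Cfsg.Agent.SporadicA.MathieuRecog.card_M22
theorem card23 : Nat.card Spor.M23 = 10200960 := Cfsg.Agent.SporadicA.MathieuRecog.card_M23
theorem card24 : Nat.card M24 = 244823040 := Cfsg.Agent.S0364.result

/-- `M23` is the point stabiliser in `M24`. -/
def equiv23 : Spor.M23 ≃* ↥(MulAction.stabilizer M24 (none : GolayPt)) where
  toFun g := ⟨⟨g.1, g.2.1⟩, g.2.2⟩
  invFun g := ⟨(g.1 : Equiv.Perm GolayPt), g.1.2, g.2⟩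
  left_inv _ := rfl
  right_inv _ := rfl
  map_mul' _ _ := rfl

instance simple22 : IsSimpleGroup Spor.M22 := Cfsg.Agent.SporadicA.MathieuRecog.simple_M22

instance simple23 : IsSimpleGroup Spor.M23 := by
  have := Cfsg.Agent.S0377.result (none : GolayPt)
  exact (MulEquiv.isSimpleGroup_congr equiv23).2 this

instance simple24 : IsSimpleGroup M24 := Cfsg.Agent.S0365.result

instance : Finite Spor.M22 := Nat.finite_of_card_ne_zero (by rw [card22]; norm_num)
instance : Finite Spor.M23 := Nat.finite_of_card_ne_zero (by rw [card23]; norm_num)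
instance : Finite M24 := Nat.finite_of_card_ne_zero (by rw [card24]; norm_num)

/-! ### `HS`, `McL` -/

theorem row_HS : RowOdd Spor.HS := fun p hp _ hd => Or.inl (by
  have hc := Cfsg.Agent.H807.El.card_HS
  have : Finite Spor.HS := Nat.finite_of_card_ne_zero (by rw [hc]; norm_num)
  rw [hc] at hd
  refine NotMin.of_simple (by rw [card22]; norm_num) embHS (fun σ τ h => perm_inj (σ := σ) (τ := τ)
    (congrArg (fun z : Spor.HS => (z : Equiv.Perm leechLattice)) h)) (by rw [hc, card22]; norm_num) hp ?_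
  rw [card22]
  exact hp.dvd_of_dvd_pow (hd.trans (by norm_num : 44352000 ∣ 443520 ^ 3)))

theorem row_McL : RowOdd Spor.McL := fun p hp _ hd => Or.inl (by
  have hc := Cfsg.Agent.H807.El.card_McL
  have : Finite Spor.McL := Nat.finite_of_card_ne_zero (by rw [hc]; norm_num)
  rw [hc] at hd
  refine NotMin.of_simple (by rw [card22]; norm_num) embMcL (fun σ τ h => perm_inj (σ := σ) (τ := τ)
    (congrArg (fun z : Spor.McL => (z : Equiv.Perm leechLattice)) h)) (by rw [hc, card22]; norm_num) hp ?_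
  rw [card22]
  exact hp.dvd_of_dvd_pow (hd.trans (by norm_num : 898128000 ∣ 443520 ^ 3)))

/-! ### `Co3`, `Co2` -/

/-- the inclusion in `M24` -/
def inc23 : Spor.M23 →* M24 := Subgroup.inclusion (fun _ h => h.1)

theorem inc23_none (σ : Spor.M23) : (inc23 σ : Equiv.Perm GolayPt) none = none := σ.2.2

theorem inc23_symm (σ : Spor.M23) (p : GolayPt) : ((inc23 σ : Equiv.Perm GolayPt).symm p = none) ↔ p = none := by
  rw [Equiv.symm_apply_eq, inc23_none]

/-- `(a, b^23)` is fixed -/
theorem smul_of (σ : Spor.M23) (a b : ℤ) (x : leechLattice)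
    (hx : ∀ p, (x : GolayPt → ℤ) p = if p = none then a else b) : permCo0 (inc23 σ) • x = x := by
  apply Subtype.ext
  funext p
  rw [permCo0_smul, permMap_apply, hx, hx]
  by_cases h2 : p = none
  · rw [if_pos h2, if_pos ((inc23_symm σ p).2 h2)]
  · rw [if_neg h2, if_neg (fun h3 => h2 ((inc23_symm σ p).1 h3))]

theorem perm_inj23 {σ τ : Spor.M23} (h : (permCo0 (inc23 σ) : Equiv.Perm leechLattice) = permCo0 (inc23 τ)) : σ = τ := by
  have h1 : permCo0 (inc23 σ) = permCo0 (inc23 τ) := Subtype.ext h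
  exact Subgroup.inclusion_injective _ (permCo0_injective h1)

/-- the embedding of `M23` in `Co3` -/
def embCo3 : Spor.M23 →* Spor.Co3 :=
  (Co0.subtype.comp (permCo0.comp inc23)).codRestrict Spor.Co3 (fun σ =>
    ⟨(permCo0 (inc23 σ)).2, smul_of σ (-5) (-1) Spor.leechV fun _ => rfl⟩)

theorem row_Co3 : RowOdd Spor.Co3 := fun p hp _ hd => Or.inl (by
  have hc := Cfsg.Agent.H807.El.card_Co3
  have : Finite Spor.Co3 := Nat.finite_of_card_ne_zero (by rw [hc]; norm_num)
  rw [hc] at hd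
  refine NotMin.of_simple (by rw [card23]; norm_num) embCo3 (fun σ τ h => perm_inj23 (σ := σ) (τ := τ)
    (congrArg (fun z : Spor.Co3 => (z : Equiv.Perm leechLattice)) h)) (by rw [hc, card23]; norm_num) hp ?_
  rw [card23]
  exact hp.dvd_of_dvd_pow (hd.trans (by norm_num : 495766656000 ∣ 10200960 ^ 4)))

/-- `(-3, 1^23)` -/
def vecT : GolayPt → ℤ := fun p => if p = none then -3 else 1

theorem vecT_mem : vecT ∈ leechSet :=
  Spor.mem_leechSet_of_const_mod_four vecT 1 1 (by decide) (by decide) (by decide)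

/-- `(-3, 1^23)` -/
def leechT : leechLattice := ⟨vecT, AddSubgroup.subset_closure vecT_mem⟩

theorem norm_T : sqNorm (leechT : GolayPt → ℤ) = 32 := by
  show sqNorm vecT = 32
  decide +kernel

theorem norm_U : sqNorm (Spor.leechU : GolayPt → ℤ) = 32 := by
  show sqNorm Spor.vecU = 32
  decide +kernel

theorem exists_embCo2 : ∃ f : Spor.M23 →* Spor.Co2, Function.Injective f := by
  obtain ⟨g, hg⟩ := Cfsg.Agent.S0400.result leechT Spor.leechU norm_T norm_U
  have hT : g⁻¹ • Spor.leechU = leechT := by rw [← hg, inv_smul_smul]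
  have hmem : ∀ σ : Spor.M23, ((MulAut.conj g (permCo0 (inc23 σ)) : Co0) : Equiv.Perm leechLattice) ∈ Spor.Co2 := by
    intro σ
    refine ⟨(MulAut.conj g (permCo0 (inc23 σ)) : Co0).2, ?_⟩
    show (MulAut.conj g (permCo0 (inc23 σ)) : Co0) • Spor.leechU = Spor.leechU
    rw [MulAut.conj_apply, mul_smul, mul_smul, hT, smul_of σ (-3) 1 leechT fun _ => rfl, hg]
  refine ⟨(Co0.subtype.comp ((MulAut.conj g).toMonoidHom.comp (permCo0.comp inc23))).codRestrict Spor.Co2 hmem,
    fun σ τ h => ?_⟩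
  have h1 : MulAut.conj g (permCo0 (inc23 σ)) = MulAut.conj g (permCo0 (inc23 τ)) :=
    Subtype.ext (congrArg (fun z : Spor.Co2 => (z : Equiv.Perm leechLattice)) h)
  exact perm_inj23 (congrArg _ ((MulAut.conj g).injective h1))

theorem row_Co2 : RowOdd Spor.Co2 := fun p hp _ hd => Or.inl (by
  have hc := Cfsg.Agent.H807.El.card_Co2
  have : Finite Spor.Co2 := Nat.finite_of_card_ne_zero (by rw [hc]; norm_num)
  rw [hc] at hd
  obtain ⟨f, hf⟩ := exists_embCo2
  refine NotMin.of_simple (by rw [card23]; norm_num) f hf (by rw [hc, card23]; norm_num) hp ?_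
  rw [card23]
  exact hp.dvd_of_dvd_pow (hd.trans (by norm_num : 42305421312000 ∣ 10200960 ^ 3)))

/-! ### `Co1` -/

open Cfsg.Agent.H49.CoOnePr (pr ker_pr card_ker pr_surjective)

theorem pr_perm_injective : Function.Injective (pr.comp permCo0) := by
  rw [← MonoidHom.ker_eq_bot_iff]
  rcases ((inferInstance : (pr.comp permCo0).ker.Normal)).eq_bot_or_eq_top with h | h
  · exact h
  exfalso
  have h1 : ∀ σ : M24, permCo0 σ ∈ pr.ker := by
    intro σ
    have h2 : σ ∈ (pr.comp permCo0).ker := by rw [h]; exact Subgroup.mem_top σ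
    exact h2
  have h3 : Nat.card M24 ≤ Nat.card pr.ker := by
    have : Finite pr.ker := Nat.finite_of_card_ne_zero (by rw [card_ker]; norm_num)
    exact Nat.card_le_card_of_injective (fun σ : M24 => (⟨permCo0 σ, h1 σ⟩ : pr.ker)) fun σ τ h4 =>
      permCo0_injective (congrArg Subtype.val h4)
  rw [card24, card_ker] at h3
  norm_num at h3

namespace Thirteen

theorem xx : el 0 * el 0 = 1 := by
  have := rel (w := [0, 0]) (w' := []) (by decide) (by decide +kernel)
  simpa only [prodW, mul_one] using this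

theorem yyy : el 1 ^ 3 = 1 := by
  have := rel (w := [1, 1, 1]) (w' := []) (by decide) (by decide +kernel)
  simp only [prodW, mul_one] at this
  simpa only [pow_succ, pow_zero, one_mul, mul_assoc] using this

theorem xy13 : (el 0 * el 1) ^ 13 = 1 := by
  have := rel (w := [0, 1, 0, 1, 0, 1, 0, 1, 0, 1, 0, 1, 0, 1, 0, 1, 0, 1, 0, 1, 0, 1, 0, 1, 0, 1]) (w' := [])
    (by decide) (by decide +kernel)
  simp only [prodW, mul_one] at this
  simpa only [pow_succ, pow_zero, one_mul, mul_assoc] using this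

open Cfsg.Agent.LeechMat.Code Cfsg.Agent.LeechMat.Elements Cfsg.Agent.LeechMat.Orbit in
theorem y_ne : el 1 ≠ 1 := by
  intro h
  obtain ⟨-, -, -, h4⟩ := rep_el (k := 1) (by norm_num)
  rw [h] at h4
  have h1 := congrFun (h4 (e8 none)) none
  have h2 : mv (Ms 1) ((e8 none : leechLattice) : GolayPt → ℤ) none =
      8 * sdig ((Ms 1).getD (pos none) 0) (pos none) := by
    show ∑ j, _ * vec ((Ms 1).getD (pos j) 0) none = _
    rw [e8_coe, Finset.sum_eq_single none]
    · rw [Pi.single_eq_same]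
      rfl
    · intro j _ hj
      rw [Pi.single_eq_of_ne hj, zero_mul]
    · intro h
      exact absurd (Finset.mem_univ _) h
  rw [h2, Pi.smul_apply, smul_eq_mul, one_smul, e8_coe, Pi.single_eq_same] at h1
  have h3 : 8 * sdig ((Ms 1).getD (pos none) 0) (pos none) ≠ ((8 : ℕ) : ℤ) * 8 := by decide +kernel
  exact h3 h1

/-- the images in `Co1` -/
noncomputable def X : Spor.Co1 := pr (el 0)
noncomputable def Y : Spor.Co1 := pr (el 1)

theorem XX : X * X = 1 := by
  show pr (el 0) * pr (el 0) = 1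
  rw [← map_mul, xx, map_one]

theorem YYY : Y ^ 3 = 1 := by
  show pr (el 1) ^ 3 = 1
  rw [← map_pow, yyy, map_one]

theorem XY : (X * Y) ^ 13 = 1 := by
  show (pr (el 0) * pr (el 1)) ^ 13 = 1
  rw [← map_mul, ← map_pow, xy13, map_one]

theorem Y_ne : Y ≠ 1 := by
  intro h
  have h1 : el 1 ∈ pr.ker := h
  have h2 : (⟨el 1, h1⟩ : pr.ker) ^ 2 = 1 := by
    rw [← card_ker]
    have : Finite pr.ker := Nat.finite_of_card_ne_zero (by rw [card_ker]; norm_num)
    exact pow_card_eq_one'
  have h3 : el 1 ^ 2 = 1 := congrArg Subtype.val h2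
  apply y_ne
  calc el 1 = el 1 ^ 3 * (el 1 ^ 2)⁻¹ := by group
    _ = 1 := by rw [h3, yyy, inv_one, mul_one]

theorem X_ne : X ≠ 1 := by
  intro h
  have h1 := XY
  rw [h, one_mul] at h1
  apply Y_ne
  calc Y = Y ^ 13 * ((Y ^ 3) ^ 4)⁻¹ := by group
    _ = 1 := by rw [h1, YYY, one_pow, inv_one, mul_one]

theorem Z_ne : X * Y ≠ 1 := by
  intro h
  have h1 : X = Y⁻¹ := eq_inv_of_mul_eq_one_left h
  have h2 := XX
  rw [h1] at h2
  apply Y_ne
  calc Y = Y ^ 3 * (Y⁻¹ * Y⁻¹) := by group
    _ = 1 := by rw [h2, YYY, mul_one]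

theorem orderOf_X : orderOf X = 2 := orderOf_eq_prime (by rw [pow_two]; exact XX) X_ne
theorem orderOf_Y : orderOf Y = 3 := orderOf_eq_prime YYY Y_ne

theorem orderOf_Z : orderOf (X * Y) = 13 := by
  have : Fact (Nat.Prime 13) := ⟨by norm_num⟩
  exact orderOf_eq_prime XY Z_ne

theorem trip : TripABC 2 3 13 Spor.Co1 := by
  have hm : Cfsg.Agent.H80.Fpf.MultDvd Spor.Co1 2 :=
    Cfsg.Agent.H80.Fpf.multDvd_of_cyclic (by norm_num) Cfsg.Agent.S2043.result
  refine TripABC.of_mult hm (fun s hs hd => Or.inl ((Nat.prime_dvd_prime_iff_eq hs Nat.prime_two).1 hd))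
    (by norm_num) (by norm_num) (by norm_num) (by norm_num) (by norm_num) (by norm_num)
    (x := X) (y := Y) (z := (X * Y)⁻¹) (PE.of_orderOf (by norm_num) orderOf_X)
    (PE.of_orderOf (by norm_num) orderOf_Y) (PE.of_orderOf (by norm_num) orderOf_Z).inv (mul_inv_cancel _)

end Thirteen

theorem row_Co1 : RowOdd Spor.Co1 := by
  intro p hp _ hd
  have hc := Cfsg.Agent.H49.CoOnePr.card_co1
  have : Finite Spor.Co1 := Cfsg.Agent.H49.CoOnePr.finite_co1
  rw [hc] at hd
  have h1 : p ∣ 13 * 244823040 ^ 4 := hd.trans (by norm_num)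
  rcases hp.dvd_or_dvd h1 with h1 | h1
  · refine Or.inr ⟨2, 3, 13, Or.inr (Or.inr ((Nat.prime_dvd_prime_iff_eq hp (by norm_num)).1 h1)), Or.inl rfl,
      Thirteen.trip⟩
  · refine Or.inl (NotMin.of_simple (by rw [card24]; norm_num) (pr.comp permCo0) pr_perm_injective
      (by rw [hc, card24]; norm_num) hp ?_)
    rw [card24]
    exact hp.dvd_of_dvd_pow h1

end Cfsg.Agent.H831.PQR
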